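import Cfsg.Agent.H149.Sa.Base

/-!
# Certificates, part 0 (task 1527)
-/

set_option autoImplicit false
set_option maxRecDepth 20000

namespace Cfsg.Agent.H149.Sa

open Cfsg.Agent.H414.RelB

/-- certificates -/
def tab0 : List (ℕ × List (RC × RC × ℕ)) := [
  (2, [(⟨23,89,11,11,[(11,1,1)],0,0⟩,⟨29,113,28,28,[(2,2,2),(7,1,1)],2,0⟩,46),
    (⟨29,113,28,28,[(2,2,2),(7,1,1)],2,0⟩,⟨37,109,36,36,[(2,2,2),(3,2,2)],2,2⟩,58),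
    (⟨37,109,36,36,[(2,2,2),(3,2,2)],2,2⟩,⟨53,157,52,52,[(2,2,2),(13,1,1)],2,0⟩,74),
    (⟨67,20857,66,66,[(2,1,1),(3,1,1),(11,1,1)],1,1⟩,⟨71,127,35,7,[(7,1,1)],0,0⟩,127),
    (⟨101,8101,100,100,[(2,2,2),(5,2,2)],2,0⟩,⟨103,2143,51,51,[(3,1,1),(17,1,1)],0,1⟩,202),
    (⟨157,1613,52,52,[(2,2,2),(13,1,1)],2,0⟩,⟨181,54001,180,180,[(2,2,2),(3,2,2),(5,1,1)],2,2⟩,314),
    (⟨311,11471,155,155,[(5,1,1),(31,1,1)],0,0⟩,⟨313,1249,156,156,[(2,2,2),(3,1,1),(13,1,1)],2,1⟩,622),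
    (⟨601,1801,25,25,[(5,2,2)],0,0⟩,⟨619,2473,618,618,[(2,1,1),(3,1,1),(103,1,1)],1,1⟩,1202),
    (⟨1163,2657,166,166,[(2,1,1),(83,1,1)],1,0⟩,⟨1181,3541,236,236,[(2,2,2),(59,1,1)],2,0⟩,2326),
    (⟨2297,10169,1148,164,[(2,2,2),(41,1,1)],2,0⟩,⟨2311,29191,1155,105,[(3,1,1),(5,1,1),(7,1,1)],0,1⟩,4594)]),
  (3, [(⟨23,3851,11,11,[(11,1,1)],0,0⟩,⟨29,16493,28,28,[(2,2,2),(7,1,1)],2,0⟩,46),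
    (⟨31,271,30,30,[(2,1,1),(3,1,1),(5,1,1)],1,1⟩,⟨43,2269,42,42,[(2,1,1),(3,1,1),(7,1,1)],1,1⟩,62),
    (⟨43,2269,42,42,[(2,1,1),(3,1,1),(7,1,1)],1,1⟩,⟨59,28537,29,29,[(29,1,1)],0,0⟩,86),
    (⟨71,1093,35,7,[(7,1,1)],0,0⟩,⟨79,2887,78,78,[(2,1,1),(3,1,1),(13,1,1)],1,1⟩,142),
    (⟨127,883,126,126,[(2,1,1),(3,2,2),(7,1,1)],1,2⟩,⟨139,5107,138,138,[(2,1,1),(3,1,1),(23,1,1)],1,1⟩,254),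
    (⟨241,6481,120,24,[(2,3,3),(3,1,1)],3,1⟩,⟨251,8951,125,25,[(5,2,3)],0,0⟩,482),
    (⟨463,2269,462,42,[(2,1,1),(3,1,1),(7,1,1)],1,1⟩,⟨479,17209,239,239,[(239,1,1)],0,0⟩,926),
    (⟨881,14401,880,80,[(2,4,4),(5,1,1)],4,0⟩,⟨883,2521,126,126,[(2,1,1),(3,2,2),(7,1,1)],1,2⟩,1762),
    (⟨1747,19207,1746,1746,[(2,1,1),(3,2,2),(97,1,1)],1,2⟩,⟨1759,3517,586,586,[(2,1,1),(293,1,1)],1,0⟩,3494)]),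
  (5, [(⟨23,67,22,22,[(2,1,1),(11,1,1)],1,0⟩,⟨29,449,14,14,[(2,1,1),(7,1,1)],1,0⟩,46),
    (⟨41,9161,20,20,[(2,2,2),(5,1,1)],2,0⟩,⟨43,127,42,42,[(2,1,1),(3,1,1),(7,1,1)],1,1⟩,82),
    (⟨61,7621,30,30,[(2,1,1),(3,1,1),(5,1,1)],1,1⟩,⟨67,5281,22,22,[(2,1,1),(11,1,1)],1,0⟩,122),
    (⟨109,271,27,27,[(3,3,3)],0,3⟩,⟨113,337,112,112,[(2,4,4),(7,1,1)],4,0⟩,218),
    (⟨191,6271,19,19,[(19,1,1)],0,0⟩,⟨211,631,35,35,[(5,1,1),(7,1,1)],0,0⟩,382),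
    (⟨367,9029,122,122,[(2,1,1),(61,1,1)],1,0⟩,⟨373,1117,372,372,[(2,2,2),(3,1,1),(31,1,1)],2,1⟩,734),
    (⟨701,1901,350,50,[(2,1,1),(5,2,2)],1,0⟩,⟨733,61001,244,244,[(2,2,2),(61,1,1)],2,0⟩,1402),
    (⟨1381,7621,690,30,[(2,1,1),(3,1,1),(5,1,1)],1,1⟩,⟨1399,6991,699,699,[(3,1,1),(233,1,1)],0,1⟩,2762),
    (⟨2741,22469,274,274,[(2,1,1),(137,1,1)],1,0⟩,⟨2749,53129,229,229,[(229,1,1)],0,0⟩,5482)]),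
  (7, [(⟨17,169553,16,16,[(2,4,4)],4,0⟩,⟨29,4733,7,7,[(7,1,1)],0,0⟩,34),
    (⟨29,4733,7,7,[(7,1,1)],0,0⟩,⟨31,159871,15,15,[(3,1,1),(5,1,1)],0,1⟩,58),
    (⟨41,1201,40,8,[(2,3,3)],3,0⟩,⟨47,3083,23,23,[(23,1,1)],0,0⟩,82),
    (⟨71,191,70,10,[(2,1,1),(5,1,1)],1,0⟩,⟨73,193,24,24,[(2,3,3),(3,1,1)],3,1⟩,142),
    (⟨127,9829,126,126,[(2,1,1),(3,2,2),(7,1,1)],1,2⟩,⟨131,2801,65,5,[(5,1,1)],0,0⟩,254),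
    (⟨239,911,238,14,[(2,1,1),(7,1,1)],1,0⟩,⟨251,2551,125,25,[(5,2,3)],0,0⟩,478),
    (⟨461,4021,460,20,[(2,2,2),(5,1,1)],2,0⟩,⟨463,911,154,14,[(2,1,1),(7,1,1)],1,0⟩,911),
    (⟨859,3631,429,33,[(3,1,1),(11,1,1)],0,1⟩,⟨883,3823,98,98,[(2,1,1),(7,2,2)],1,0⟩,1718),
    (⟨1697,20353,1696,1696,[(2,5,5),(53,1,1)],5,0⟩,⟨1699,25471,849,849,[(3,1,1),(283,1,1)],0,1⟩,3394)]),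
  (11, [(⟨23,89,22,22,[(2,1,1),(11,1,1)],1,0⟩,⟨29,61,28,4,[(2,2,2)],2,0⟩,46),
    (⟨41,7321,40,8,[(2,3,3)],3,0⟩,⟨43,45319,7,7,[(7,1,1)],0,0⟩,82),
    (⟨73,40177,72,72,[(2,3,3),(3,2,2)],3,2⟩,⟨79,547,39,39,[(3,1,1),(13,1,1)],0,1⟩,146),
    (⟨127,8317,63,63,[(3,2,2),(7,1,1)],0,2⟩,⟨131,1093,65,13,[(13,1,1)],0,0⟩,254),
    (⟨241,1777,48,48,[(2,4,4),(3,1,1)],4,1⟩,⟨251,13421,250,10,[(2,1,1),(5,1,3)],1,0⟩,482),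
    (⟨457,7321,152,8,[(2,3,3)],3,0⟩,⟨463,4621,462,462,[(2,1,1),(3,1,1),(7,1,1),(11,1,1)],1,1⟩,914),
    (⟨887,2659,443,443,[(443,1,1)],0,0⟩,⟨907,3323,302,302,[(2,1,1),(151,1,1)],1,0⟩,1774),
    (⟨1733,32909,1732,1732,[(2,2,2),(433,1,1)],2,0⟩,⟨1741,6961,435,435,[(3,1,1),(5,1,1),(29,1,1)],0,1⟩,3466)]),
  (13, [(⟨23,419,11,11,[(11,1,1)],0,0⟩,⟨29,22079,14,14,[(2,1,1),(7,1,1)],1,0⟩,46),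
    (⟨41,14281,40,8,[(2,3,3)],3,0⟩,⟨43,337,21,21,[(3,1,1),(7,1,1)],0,1⟩,82),
    (⟨73,4177,72,72,[(2,3,3),(3,2,2)],3,2⟩,⟨79,1093,39,39,[(3,1,1),(13,1,1)],0,1⟩,146),
    (⟨137,409,136,136,[(2,3,3),(17,1,1)],3,0⟩,⟨139,10903,69,69,[(3,1,1),(23,1,1)],0,1⟩,274),
    (⟨269,4021,134,134,[(2,1,1),(67,1,1)],1,0⟩,⟨271,937,18,18,[(2,1,1),(3,2,2)],1,2⟩,538),
    (⟨457,20521,456,456,[(2,3,3),(3,1,1),(19,1,1)],3,1⟩,⟨491,1667,245,49,[(7,2,2)],0,0⟩,914),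
    (⟨883,6301,441,63,[(3,2,2),(7,1,2)],0,2⟩,⟨911,2731,455,455,[(5,1,1),(7,1,1),(13,1,1)],0,0⟩,1766),
    (⟨1747,19207,1746,1746,[(2,1,1),(3,2,2),(97,1,1)],1,2⟩,⟨1753,14281,584,8,[(2,3,3)],3,0⟩,3494)]),
  (17, [(⟨19,1270657,9,9,[(3,2,2)],0,2⟩,⟨23,947,22,22,[(2,1,1),(11,1,1)],1,0⟩,38),
    (⟨23,947,22,22,[(2,1,1),(11,1,1)],1,0⟩,⟨37,109,36,36,[(2,2,2),(3,2,2)],2,2⟩,46),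
    (⟨41,41761,40,8,[(2,3,3)],3,0⟩,⟨43,307,21,3,[(3,1,1)],0,1⟩,82),
    (⟨67,307,33,3,[(3,1,1)],0,1⟩,⟨73,1321,24,24,[(2,3,3),(3,1,1)],3,1⟩,134),
    (⟨113,337,112,112,[(2,4,4),(7,1,1)],4,0⟩,⟨131,53171,130,130,[(2,1,1),(5,1,1),(13,1,1)],1,0⟩,226),
    (⟨199,991,66,66,[(2,1,1),(3,1,1),(11,1,1)],1,1⟩,⟨211,6091,210,210,[(2,1,1),(3,1,1),(5,1,1),(7,1,1)],1,1⟩,398),
    (⟨367,9883,366,366,[(2,1,1),(3,1,1),(61,1,1)],1,1⟩,⟨397,19801,132,132,[(2,2,2),(3,1,1),(11,1,1)],2,1⟩,734),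
    (⟨727,3697,363,33,[(3,1,1),(11,1,2)],0,1⟩,⟨733,9883,366,366,[(2,1,1),(3,1,1),(61,1,1)],1,1⟩,1454),
    (⟨1451,23549,1450,58,[(2,1,1),(29,1,1)],1,0⟩,⟨1453,10891,726,726,[(2,1,1),(3,1,1),(11,2,2)],1,1⟩,2902),
    (⟨2861,21881,260,20,[(2,2,2),(5,1,1)],2,0⟩,⟨2897,18913,2896,16,[(2,4,4)],4,0⟩,5722)]),
  (19, [(⟨17,3833,8,8,[(2,3,3)],3,0⟩,⟨29,181,28,4,[(2,2,2)],2,0⟩,34),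
    (⟨29,181,28,4,[(2,2,2)],2,0⟩,⟨31,127,15,3,[(3,1,1)],0,1⟩,58),
    (⟨47,691,46,46,[(2,1,1),(23,1,1)],1,0⟩,⟨53,181,52,4,[(2,2,2)],2,0⟩,94),
    (⟨79,157,39,39,[(3,1,1),(13,1,1)],0,1⟩,⟨89,3833,88,8,[(2,3,3)],3,0⟩,157),
    (⟨139,5521,138,138,[(2,1,1),(3,1,1),(23,1,1)],1,1⟩,⟨151,911,5,5,[(5,1,1)],0,0⟩,278),
    (⟨251,2251,250,10,[(2,1,1),(5,1,3)],1,0⟩,⟨277,2347,23,23,[(23,1,1)],0,0⟩,502),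
    (⟨467,14447,466,466,[(2,1,1),(233,1,1)],1,0⟩,⟨491,2251,490,10,[(2,1,1),(5,1,1)],1,0⟩,934),
    (⟨919,41203,918,54,[(2,1,1),(3,3,3)],1,3⟩,⟨929,4409,116,116,[(2,2,2),(29,1,1)],2,0⟩,1838),
    (⟨1823,23687,911,911,[(911,1,1)],0,0⟩,⟨1831,8053,610,122,[(2,1,1),(61,1,1)],1,0⟩,3646)]),
  (23, [(⟨19,7792003,9,9,[(3,2,2)],0,2⟩,⟨29,5336717,7,7,[(7,1,1)],0,0⟩,38),
    (⟨31,211,10,10,[(2,1,1),(5,1,1)],1,0⟩,⟨37,7549,12,12,[(2,2,2),(3,1,1)],2,1⟩,62),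
    (⟨47,139,46,46,[(2,1,1),(23,1,1)],1,0⟩,⟨61,941,20,20,[(2,2,2),(5,1,1)],2,0⟩,94),
    (⟨71,673,14,14,[(2,1,1),(7,1,1)],1,0⟩,⟨73,4789,36,36,[(2,2,2),(3,2,2)],2,2⟩,142),
    (⟨127,271,126,18,[(2,1,1),(3,2,2)],1,2⟩,⟨139,1013,46,46,[(2,1,1),(23,1,1)],1,0⟩,254),
    (⟨241,3697,80,16,[(2,4,4)],4,0⟩,⟨251,6551,125,25,[(5,2,3)],0,0⟩,482),
    (⟨461,1289,23,23,[(23,1,1)],0,0⟩,⟨463,2969,154,14,[(2,1,1),(7,1,1)],1,0⟩,922),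
    (⟨911,31721,65,65,[(5,1,1),(13,1,1)],0,0⟩,⟨919,3673,459,459,[(3,3,3),(17,1,1)],0,3⟩,1822),
    (⟨1787,39293,1786,1786,[(2,1,1),(19,1,1),(47,1,1)],1,0⟩,⟨1811,10499,905,181,[(181,1,1)],0,0⟩,3574)]),
  (29, [(⟨17,26209,16,16,[(2,4,4)],4,0⟩,⟨19,10435069,18,18,[(2,1,1),(3,2,2)],1,2⟩,34),
    (⟨19,10435069,18,18,[(2,1,1),(3,2,2)],1,2⟩,⟨31,401,10,10,[(2,1,1),(5,1,1)],1,0⟩,38),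
    (⟨31,401,10,10,[(2,1,1),(5,1,1)],1,0⟩,⟨37,313,12,12,[(2,2,2),(3,1,1)],2,1⟩,62),
    (⟨59,16763,29,29,[(29,1,1)],0,0⟩,⟨61,313,12,12,[(2,2,2),(3,1,1)],2,1⟩,118),
    (⟨107,10601,53,53,[(53,1,1)],0,0⟩,⟨113,26209,112,16,[(2,4,4)],4,0⟩,214),
    (⟨191,401,190,10,[(2,1,1),(5,1,1)],1,0⟩,⟨199,14437,99,9,[(3,2,2)],0,2⟩,382),
    (⟨337,2017,336,336,[(2,4,4),(3,1,1),(7,1,1)],4,1⟩,⟨347,58129,173,173,[(173,1,1)],0,0⟩,674),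
    (⟨643,3853,321,321,[(3,1,1),(107,1,1)],0,1⟩,⟨647,3911,323,17,[(17,1,1)],0,0⟩,1286),
    (⟨1277,16763,319,29,[(29,1,1)],0,0⟩,⟨1279,7669,1278,1278,[(2,1,1),(3,2,2),(71,1,1)],1,2⟩,2554),
    (⟨2543,36767,1271,31,[(31,1,1)],0,0⟩,⟨2551,12301,1275,75,[(3,1,1),(5,2,2)],0,1⟩,5086)]),
  (31, [(⟨23,397,11,11,[(11,1,1)],0,0⟩,⟨29,7253,28,28,[(2,2,2),(7,1,1)],2,0⟩,46),
    (⟨41,21821,10,10,[(2,1,1),(5,1,1)],1,0⟩,⟨43,331,21,3,[(3,1,1)],0,1⟩,82),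
    (⟨71,11971,70,14,[(2,1,1),(7,1,1)],1,0⟩,⟨79,331,39,3,[(3,1,1)],0,1⟩,142),
    (⟨137,409,136,8,[(2,3,3)],3,0⟩,⟨139,331,69,3,[(3,1,1)],0,1⟩,274),
    (⟨269,1609,268,268,[(2,2,2),(67,1,1)],2,0⟩,⟨271,3637,45,9,[(3,2,2)],0,2⟩,538),
    (⟨521,17863,130,26,[(2,1,1),(13,1,1)],1,0⟩,⟨523,3637,261,9,[(3,2,2)],0,2⟩,1042),
    (⟨1013,2729,1012,44,[(2,2,2),(11,1,1)],2,0⟩,⟨1021,5101,1020,1020,[(2,2,2),(3,1,1),(5,1,1),(17,1,1)],2,1⟩,2026),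
    (⟨2003,11971,2002,14,[(2,1,1),(7,1,1)],1,0⟩,⟨2011,17351,335,5,[(5,1,1)],0,0⟩,4006)]),
  (37, [(⟨23,2069,22,22,[(2,1,1),(11,1,1)],1,0⟩,⟨29,137,28,4,[(2,2,2)],2,0⟩,46),
    (⟨29,137,28,4,[(2,2,2)],2,0⟩,⟨41,4271,5,5,[(5,1,1)],0,0⟩,58),
    (⟨41,4271,5,5,[(5,1,1)],0,0⟩,⟨53,591163,26,26,[(2,1,1),(13,1,1)],1,0⟩,82),
    (⟨61,137,20,4,[(2,2,2)],2,0⟩,⟨73,127,9,9,[(3,2,2)],0,2⟩,122),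
    (⟨107,743,53,53,[(53,1,1)],0,0⟩,⟨109,2917,108,108,[(2,2,2),(3,3,3)],2,3⟩,214),
    (⟨197,491,49,49,[(7,2,2)],0,0⟩,⟨211,2671,105,15,[(3,1,1),(5,1,1)],0,1⟩,394),
    (⟨367,40993,183,183,[(3,1,1),(61,1,1)],0,1⟩,⟨383,2293,382,382,[(2,1,1),(191,1,1)],1,0⟩,734),
    (⟨727,4621,726,66,[(2,1,1),(3,1,1),(11,1,2)],1,1⟩,⟨733,40993,183,183,[(3,1,1),(61,1,1)],0,1⟩,1454),
    (⟨1447,4339,241,241,[(241,1,1)],0,0⟩,⟨1451,25951,1450,50,[(2,1,1),(5,2,2)],1,0⟩,2894),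
    (⟨2861,38611,1430,1430,[(2,1,1),(5,1,1),(11,1,1),(13,1,1)],1,0⟩,⟨2887,16381,1443,39,[(3,1,1),(13,1,1)],0,1⟩,5722)]),
  (41, [(⟨31,1723,15,3,[(3,1,1)],0,1⟩,⟨37,30853,18,18,[(2,1,1),(3,2,2)],1,2⟩,62),
    (⟨59,349,29,29,[(29,1,1)],0,0⟩,⟨61,4111,10,10,[(2,1,1),(5,1,1)],1,0⟩,118),
    (⟨109,1993,12,12,[(2,2,2),(3,1,1)],2,1⟩,⟨113,10313,56,8,[(2,3,3)],3,0⟩,218),
    (⟨199,30853,198,18,[(2,1,1),(3,2,2)],1,2⟩,⟨211,547,210,6,[(2,1,1),(3,1,1)],1,1⟩,398),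
    (⟨389,20759,194,194,[(2,1,1),(97,1,1)],1,0⟩,⟨397,1009,36,36,[(2,2,2),(3,2,2)],2,2⟩,778),
    (⟨739,5167,369,369,[(3,2,2),(41,1,1)],0,2⟩,⟨751,4111,50,10,[(2,1,1),(5,1,2)],1,0⟩,1478),
    (⟨1451,16651,725,25,[(5,2,2)],0,0⟩,⟨1471,22381,735,15,[(3,1,1),(5,1,1)],0,1⟩,2902),
    (⟨2857,10313,952,8,[(2,3,3)],3,0⟩,⟨2897,8689,2896,2896,[(2,4,4),(181,1,1)],4,0⟩,5714)]),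
  (43, [(⟨31,139,30,6,[(2,1,1),(3,1,1)],1,1⟩,⟨41,4481,20,20,[(2,2,2),(5,1,1)],2,0⟩,62),
    (⟨53,55147,26,26,[(2,1,1),(13,1,1)],1,0⟩,⟨61,2341,60,60,[(2,2,2),(3,1,1),(5,1,1)],2,1⟩,106),
    (⟨97,313,24,24,[(2,3,3),(3,1,1)],3,1⟩,⟨103,28867,102,102,[(2,1,1),(3,1,1),(17,1,1)],1,1⟩,194),
    (⟨191,2699,95,19,[(19,1,1)],0,0⟩,⟨193,521,8,8,[(2,3,3)],3,0⟩,382),
    (⟨367,1831,366,366,[(2,1,1),(3,1,1),(61,1,1)],1,1⟩,⟨379,2647,378,378,[(2,1,1),(3,3,3),(7,1,1)],1,3⟩,734),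
    (⟨709,2833,354,354,[(2,1,1),(3,1,1),(59,1,1)],1,1⟩,⟨733,18301,732,732,[(2,2,2),(3,1,1),(61,1,1)],2,1⟩,1418),
    (⟨1373,18229,686,98,[(2,1,1),(7,2,3)],1,0⟩,⟨1381,11317,1380,276,[(2,2,2),(3,1,1),(23,1,1)],2,1⟩,2746),
    (⟨2713,6781,1356,1356,[(2,2,2),(3,1,1),(113,1,1)],2,1⟩,⟨2731,11311,1365,39,[(3,1,1),(13,1,1)],0,1⟩,5426)]),
  (47, [(⟨31,14621,5,5,[(5,1,1)],0,0⟩,⟨41,97,40,8,[(2,3,3)],3,0⟩,62),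
    (⟨53,2237,13,13,[(13,1,1)],0,0⟩,⟨59,30509,58,58,[(2,1,1),(29,1,1)],1,0⟩,106),
    (⟨97,25153,8,8,[(2,3,3)],3,0⟩,⟨101,251,50,50,[(2,1,1),(5,2,2)],1,0⟩,194),
    (⟨181,1153,180,36,[(2,2,2),(3,2,2)],2,2⟩,⟨193,577,192,192,[(2,6,6),(3,1,1)],6,1⟩,362),
    (⟨349,35729,116,116,[(2,2,2),(29,1,1)],2,0⟩,⟨353,881,176,176,[(2,4,4),(11,1,1)],4,0⟩,698),
    (⟨677,11701,676,52,[(2,2,2),(13,1,2)],2,0⟩,⟨691,50551,345,15,[(3,1,1),(5,1,1)],0,1⟩,1354),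
    (⟨1301,3251,650,650,[(2,1,1),(5,2,2),(13,1,1)],1,0⟩,⟨1307,27427,653,653,[(653,1,1)],0,0⟩,2602),
    (⟨2557,40897,2556,2556,[(2,2,2),(3,2,2),(71,1,1)],2,2⟩,⟨2591,5881,2590,14,[(2,1,1),(7,1,1)],1,0⟩,5114)])]

theorem tab0_ok : tabB tab0 = true := by decide +kernel

end Cfsg.Agent.H149.Sa
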